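import Mathlib

/-! Extending an element outside the minimal primes to a system of parameters. -/

namespace Groth.Agent.SopLib

open IsLocalRing
open scoped Pointwise

universe u

variable {R : Type u} [CommRing R] [IsNoetherianRing R] [IsLocalRing R]

theorem exists_sop_extending {d : ℕ} (hd : ringKrullDim R = d) {f : R} (hf : f ∈ maximalIdeal R)
    (hmin : ∀ p ∈ minimalPrimes R, f ∉ p) (k : ℕ) :
    ∃ g : Fin (d - 1) → R, (∀ i, g i ∈ maximalIdeal R ^ k) ∧ (∀ i, g i ∈ maximalIdeal R) ∧
      maximalIdeal R ≤ (Ideal.span (insert f (Set.range g))).radical := by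
  classical
  let I : Ideal R := Ideal.span {f}
  have hIm : I ≤ maximalIdeal R := (Ideal.span_singleton_le_iff_mem _).mpr hf
  haveI : Nontrivial (R ⧸ I) := Ideal.Quotient.nontrivial_iff.mpr fun h =>
    (maximalIdeal.isMaximal R).ne_top (top_le_iff.mp (h.ge.trans hIm))
  haveI : IsLocalRing (R ⧸ I) := IsLocalRing.of_surjective' (Ideal.Quotient.mk I) Ideal.Quotient.mk_surjective
  have hdim : ringKrullDim (R ⧸ I) + 1 ≤ (d : WithBot ℕ∞) := by
    have h := Module.supportDim_quotSMulTop_succ_le_of_notMem_minimalPrimes (R := R) (M := R) (x := f) (fun p hp => hmin p (by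
      rwa [Module.annihilator_eq_bot.mpr inferInstance] at hp))
    rw [Module.supportDim_self_eq_ringKrullDim, hd] at h
    have hI : (f • ⊤ : Ideal R) = I := by simp [I, ← Submodule.ideal_span_singleton_smul]
    change Module.supportDim R (R ⧸ (f • ⊤ : Ideal R)) + 1 ≤ _ at h
    rwa [Module.supportDim_quotient_eq_ringKrullDim, hI] at h
  obtain ⟨s, hs, hcard⟩ := (maximalIdeal (R ⧸ I)).exists_finset_card_eq_height_of_isNoetherianRing
  rw [← maximalIdeal_height_eq_ringKrullDim, ← hcard] at hdim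
  have hcard' : s.card ≤ d - 1 := by
    have : ((s.card + 1 : ℕ) : WithBot ℕ∞) ≤ (d : WithBot ℕ∞) := by push_cast; exact hdim
    have : s.card + 1 ≤ d := by exact_mod_cast this
    omega
  choose lift hlift using Ideal.Quotient.mk_surjective (I := I)
  let t : Fin (d - 1) → R := fun i => if h : i.1 < s.card then lift (s.equivFin.symm ⟨i.1, h⟩).1 else 0
  have ht : ∀ i, t i ∈ maximalIdeal R := by
    intro i
    simp only [t]
    split
    · rename_i h
      by_contra hu
      have h1 : (s.equivFin.symm ⟨i.1, h⟩).1 ∈ maximalIdeal (R ⧸ I) :=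
        hs.1.2 (Ideal.subset_span (s.equivFin.symm ⟨i.1, h⟩).2)
      rw [IsLocalRing.mem_maximalIdeal, mem_nonunits_iff, not_not] at hu
      rw [← hlift (s.equivFin.symm ⟨i.1, h⟩).1] at h1
      exact h1 (hu.map _)
    · exact zero_mem _
  refine ⟨fun i => t i ^ (k + 1), fun i => Ideal.pow_le_pow_right (Nat.le_succ k) (Ideal.pow_mem_pow (ht i) _),
    fun i => Ideal.pow_mem_of_mem _ (ht i) _ (Nat.succ_pos k), ?_⟩
  rw [Ideal.radical_eq_sInf]
  refine le_sInf fun q hq => ?_
  obtain ⟨hle, hqp⟩ := hq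
  have hfq : f ∈ q := hle (Ideal.subset_span (Set.mem_insert _ _))
  have hIq : I ≤ q := (Ideal.span_singleton_le_iff_mem _).mpr hfq
  haveI : (q.map (Ideal.Quotient.mk I)).IsPrime := Ideal.isPrime_map_quotientMk_of_isPrime hIq
  have hsq : Ideal.span (s : Set (R ⧸ I)) ≤ q.map (Ideal.Quotient.mk I) := by
    refine Ideal.span_le.mpr fun y hy => ?_
    let j := s.equivFin ⟨y, hy⟩
    have hj : t ⟨j.1, lt_of_lt_of_le j.2 hcard'⟩ = lift y := by simp [t, j]
    have := hqp.mem_of_pow_mem _ (hle (Ideal.subset_span (Set.mem_insert_of_mem _ ⟨⟨j.1, lt_of_lt_of_le j.2 hcard'⟩, rfl⟩)))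
    rw [hj] at this
    rw [← hlift y]
    exact Ideal.mem_map_of_mem _ this
  have := hs.2 ⟨inferInstance, hsq⟩ (le_maximalIdeal (Ideal.IsPrime.ne_top inferInstance))
  intro x hx
  have hx' : Ideal.Quotient.mk I x ∈ q.map (Ideal.Quotient.mk I) := this (by
    rw [IsLocalRing.mem_maximalIdeal, mem_nonunits_iff]
    intro hu
    obtain ⟨y, hy⟩ := hu.exists_right_inv
    obtain ⟨y, rfl⟩ := Ideal.Quotient.mk_surjective y
    rw [← map_mul, ← map_one (Ideal.Quotient.mk I), Ideal.Quotient.eq] at hy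
    have := sub_mem ((maximalIdeal R).mul_mem_right y hx) (hIm hy)
    rw [sub_sub_cancel] at this
    exact (maximalIdeal.isMaximal R).ne_top ((Ideal.eq_top_iff_one _).mpr this))
  rwa [← Ideal.mem_comap, Ideal.comap_map_of_surjective _ Ideal.Quotient.mk_surjective, ← RingHom.ker_eq_comap_bot,
    Ideal.mk_ker, sup_eq_left.mpr hIq] at hx'

end Groth.Agent.SopLib
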